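import Groth.Agent.Lib.FunFld.Res.SepRes
import Groth.Agent.Lib.FunFld.Ext
import Groth.Agent.Lib.FunFld.PlaneCurve.Adjoint

/-! Different exponents computed through expansions: first properties. -/

namespace Groth.Agent.Lib.FunFld.Different

open WithZero IntermediateField
open Groth.Agent.Lib.FunFld

universe u v v' w
variable {k : Type u} [Field k] {K : Type v} [Field K] [Algebra k K] {K' : Type v'} [Field K']
  [Algebra k K'] [Algebra K K'] [IsScalarTower k K K']

/-- The derivative of a series of order `n`. -/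
theorem val_D {F : Type w} [Field F] {g : LaurentSeries F} {n : ℤ} (h : Valued.v g = exp (-n)) :
    ((n : F) ≠ 0 → Valued.v (LocRes.D F g) = exp (-(n - 1))) ∧
      ((n : F) = 0 → Valued.v (LocRes.D F g) ≤ exp (-n)) := by
  have hc := (LaurentSeries.valuation_le_iff_coeff_lt_eq_zero F).mp h.le
  have hn : g.coeff n ≠ 0 := fun h0 => by
    have : Valued.v g ≤ exp (-(n + 1)) := (LaurentSeries.valuation_le_iff_coeff_lt_eq_zero F).mpr
      fun m hm => by
        rcases lt_or_eq_of_le (Int.lt_add_one_iff.mp hm) with hm | rfl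
        exacts [hc m hm, h0]
    rw [h, exp_le_exp] at this
    omega
  have hle : Valued.v (LocRes.D F g) ≤ exp (-(n - 1)) := Res.SepRes.D_small h.le
  have hco : (LocRes.D F g).coeff (n - 1) = (n : F) * g.coeff n := by
    rw [LocRes.D_coeff, sub_add_cancel, zsmul_eq_mul]
  refine ⟨fun hne => le_antisymm hle (le_of_not_gt fun hlt => ?_), fun h0 => ?_⟩
  · have h2 : Valued.v (LocRes.D F g) ≤ exp (-n) := by
      rcases eq_or_ne (Valued.v (LocRes.D F g)) 0 with h0 | h0
      · rw [h0]; exact zero_le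
      · rw [← exp_log h0, exp_lt_exp] at hlt
        rw [← exp_log h0, exp_le_exp]
        omega
    have := (LaurentSeries.valuation_le_iff_coeff_lt_eq_zero F).mp h2 (n - 1) (by omega)
    rw [hco] at this
    exact mul_ne_zero hne hn this
  · refine (LaurentSeries.valuation_le_iff_coeff_lt_eq_zero F).mpr fun m hm => ?_
    rcases lt_or_eq_of_le (show m ≤ n - 1 by omega) with hm1 | rfl
    · exact (LaurentSeries.valuation_le_iff_coeff_lt_eq_zero F).mp hle m hm1
    · rw [hco, h0, zero_mul]

/-- The derivative of a uniformizer is a unit. -/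
theorem val_D_uniformizer {F : Type w} [Field F] {g : LaurentSeries F}
    (h : Valued.v g = exp (-1)) : Valued.v (LocRes.D F g) = 1 := by
  rw [(val_D (n := 1) h).1 (by simp), show -((1 : ℤ) - 1) = 0 by norm_num, exp_zero]

theorem ordDiff_one {A : Type v} [Field A] [Algebra k A] {F : Type w} [Field F] [Algebra k F]
    (φ : A →ₐ[k] LaurentSeries F) (x : A) :
    LocRes.ordDiff φ 1 x = -log (Valued.v (LocRes.D F (φ x))) := by
  rw [LocRes.ordDiff, LocRes.vDiff, map_one, one_mul]

theorem vDiff_one {A : Type v} [Field A] [Algebra k A] {F : Type w} [Field F] [Algebra k F]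
    (φ : A →ₐ[k] LaurentSeries F) (x : A) :
    LocRes.vDiff φ 1 x = Valued.v (LocRes.D F (φ x)) := by
  rw [LocRes.vDiff, map_one, one_mul]

/-- A relation between differentials below passes to the expansions above. -/
theorem D_map_of_smul_eq {F' : Type w} [Field F'] [Algebra k F'] (ψ : K' →ₐ[k] LaurentSeries F')
    {a x x' : K} (h : a • KaehlerDifferential.D k K x = KaehlerDifferential.D k K x') :
    LocRes.D F' (ψ (algebraMap K K' x')) =
      ψ (algebraMap K K' a) * LocRes.D F' (ψ (algebraMap K K' x)) := by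
  set χ : K →ₐ[k] LaurentSeries F' := ψ.comp (IsScalarTower.toAlgHom k K K')
  let _ := χ.toRingHom.toAlgebra
  have := LocRes.isScalarTower_exp χ
  have h1 := congrArg (LocRes.dExp χ).liftKaehlerDifferential h
  rw [map_smul, Derivation.liftKaehlerDifferential_comp_D,
    Derivation.liftKaehlerDifferential_comp_D] at h1
  exact h1.symm

theorem exists_smul_eq (hK : FunFld.IsFunctionField k K) (hsep : ∃ x₀ : K, Hasse.Separable.IsSep k x₀)
    {x : K} (hx : KaehlerDifferential.D k K x ≠ 0) (x' : K) :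
    ∃ a : K, a • KaehlerDifferential.D k K x = KaehlerDifferential.D k K x' :=
  Submodule.mem_span_singleton.mp
    ((Hasse.Separable.span_D_eq_top (Hasse.Separable.isSep_of_D_ne_zero hK hsep hx)).symm ▸
      Submodule.mem_top)

/-- The different exponent does not depend on the differential. -/
theorem diffExp_eq {F F' : Type w} [Field F] [Algebra k F] [Field F'] [Algebra k F']
    {P : _root_.FunFld.Place k K} {Q : _root_.FunFld.Place k K'} {e : ℕ}
    (he : FunFld.IsOverWith Q P e) (hK : FunFld.IsFunctionField k K)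
    (hsep : ∃ x₀ : K, Hasse.Separable.IsSep k x₀) {φ : K →ₐ[k] LaurentSeries F}
    (hφ : LocRes.IsExpansionAt P.1 φ) {ψ : K' →ₐ[k] LaurentSeries F'}
    (hψ : LocRes.IsExpansionAt Q.1 ψ) {x x' : K} (hx : LocRes.vDiff φ 1 x ≠ 0)
    (hx' : LocRes.vDiff φ 1 x' ≠ 0) (hx1 : LocRes.vDiff ψ 1 (algebraMap K K' x) ≠ 0) :
    LocRes.vDiff ψ 1 (algebraMap K K' x') ≠ 0 ∧
      LocRes.diffExp φ ψ e x = LocRes.diffExp φ ψ e x' := by
  rw [vDiff_one] at hx hx' hx1
  have hdx : KaehlerDifferential.D k K x ≠ 0 := fun h => hx (by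
    rw [Res.SepRes.D_eq_zero_of_kaehler φ h, map_zero])
  obtain ⟨a, ha⟩ := exists_smul_eq hK hsep hdx x'
  have h1 : LocRes.D F (φ x') = φ a * LocRes.D F (φ x) := by
    let _ := φ.toRingHom.toAlgebra
    have := LocRes.isScalarTower_exp φ
    have h1 := congrArg (LocRes.dExp φ).liftKaehlerDifferential ha
    rw [map_smul, Derivation.liftKaehlerDifferential_comp_D,
      Derivation.liftKaehlerDifferential_comp_D] at h1
    exact h1.symm
  have h2 := D_map_of_smul_eq (K' := K') ψ ha
  have ha0 : a ≠ 0 := fun h => hx' (by rw [h1, h, map_zero, zero_mul, map_zero])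
  have hQa : Q.1 (algebraMap K K' a) ≠ 0 := (Valuation.ne_zero_iff _).mpr (by simpa using ha0)
  have hne : Valued.v (LocRes.D F' (ψ (algebraMap K K' x'))) ≠ 0 := by
    rw [h2, map_mul, hψ.1]
    exact mul_ne_zero hQa hx1
  refine ⟨by rwa [vDiff_one], ?_⟩
  rw [LocRes.diffExp, LocRes.diffExp, ordDiff_one, ordDiff_one, ordDiff_one, ordDiff_one, h1, h2,
    map_mul, map_mul, hψ.1, hφ.1, log_mul ((Valuation.ne_zero_iff _).mpr ha0) hx, log_mul hQa hx1,
    he a, log_pow, nsmul_eq_mul]
  ring

/-- A separating element stays separating in a separable extension. -/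
theorem isSep_map [Algebra.IsSeparable K K'] {x : K} (hx : Hasse.Separable.IsSep k x) :
    Hasse.Separable.IsSep k (algebraMap K K' x) := by
  unfold Hasse.Separable.IsSep at hx ⊢
  set E := adjoin k ({x} : Set K)
  have h1 : Algebra.IsSeparable E K' := Algebra.IsSeparable.trans E K K'
  have himg : E.map (IsScalarTower.toAlgHom k K K') = adjoin k ({algebraMap K K' x} : Set K') := by
    rw [adjoin_map, Set.image_singleton]; rfl
  let e : E ≃+* adjoin k ({algebraMap K K' x} : Set K') :=
    ((E.equivMap (IsScalarTower.toAlgHom k K K')).trans (IntermediateField.equivOfEq himg)).toRingEquiv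
  exact Algebra.IsSeparable.of_equiv_equiv e (RingEquiv.refl K') (RingHom.ext fun z => rfl)

/-- Residue fields of separable places in a separable extension are separable. -/
theorem isSeparable_residue [FiniteDimensional K K'] [Algebra.IsSeparable K K']
    (hK : FunFld.IsFunctionField k K) (hsep : ∃ x₀ : K, Hasse.Separable.IsSep k x₀)
    {F' : Type w} [Field F'] [Algebra k F'] {Q : _root_.FunFld.Place k K'}
    {ψ : K' →ₐ[k] LaurentSeries F'} (hψ : LocRes.IsExpansionAt Q.1 ψ) :
    FiniteDimensional k F' ∧ Algebra.IsSeparable k F' := by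
  have hfin : FiniteDimensional k F' := Module.finite_of_finrank_pos (by
    rw [Res.Coef.finrank_eq_deg hψ]
    exact Gen.Existence.deg_pos (Ext.isFF_of_finite hK) Q)
  obtain ⟨x₀, hx₀⟩ := hsep
  exact ⟨hfin, Res.SepRes.isSeparable_of_expansion hψ ⟨_, isSep_map hx₀⟩⟩

theorem vDiff_map_ne_zero [Algebra.IsSeparable K K'] (hK : FunFld.IsFunctionField k K)
    (hsep : ∃ x₀ : K, Hasse.Separable.IsSep k x₀) {F' : Type w} [Field F'] [Algebra k F']
    {Q : _root_.FunFld.Place k K'} {ψ : K' →ₐ[k] LaurentSeries F'}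
    (hψ : LocRes.IsExpansionAt Q.1 ψ) {x : K} (hx : KaehlerDifferential.D k K x ≠ 0) :
    LocRes.vDiff ψ 1 (algebraMap K K' x) ≠ 0 := by
  rw [vDiff_one, Valuation.ne_zero_iff]
  exact Res.SepRes.D_ne_zero_of_isSep hψ
    (isSep_map (Hasse.Separable.isSep_of_D_ne_zero hK hsep hx))

/-- The different exponent is read off a uniformizer below. -/
theorem diffExp_uniformizer [Algebra.IsSeparable K K'] {F F' : Type w} [Field F] [Algebra k F]
    [Field F'] [Algebra k F'] {P : _root_.FunFld.Place k K} {Q : _root_.FunFld.Place k K'} {e : ℕ}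
    (he : FunFld.IsOverWith Q P e) (hK : FunFld.IsFunctionField k K)
    (hsep : ∃ x₀ : K, Hasse.Separable.IsSep k x₀) {φ : K →ₐ[k] LaurentSeries F}
    (hφ : LocRes.IsExpansionAt P.1 φ) {ψ : K' →ₐ[k] LaurentSeries F'}
    (hψ : LocRes.IsExpansionAt Q.1 ψ) {x : K} (hx : LocRes.vDiff φ 1 x ≠ 0) {t : K}
    (ht : P.1 t = exp (-1)) :
    Valued.v (LocRes.D F' (ψ (algebraMap K K' t))) = exp (-LocRes.diffExp φ ψ e x) := by
  have h1 : Valued.v (LocRes.D F (φ t)) = 1 := val_D_uniformizer (by rw [hφ.1, ht])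
  have ht0 : LocRes.vDiff φ 1 t ≠ 0 := by rw [vDiff_one, h1]; exact one_ne_zero
  have hdx : KaehlerDifferential.D k K x ≠ 0 := fun h => hx (by
    rw [vDiff_one, Res.SepRes.D_eq_zero_of_kaehler φ h, map_zero])
  obtain ⟨hne, heq⟩ := diffExp_eq he hK hsep hφ hψ hx ht0 (vDiff_map_ne_zero hK hsep hψ hdx)
  rw [vDiff_one] at hne
  rw [heq, LocRes.diffExp, ordDiff_one, ordDiff_one, h1, log_one, neg_zero, mul_zero, sub_zero,
    neg_neg, exp_log hne]

/-- `d = e - 1` exactly in the tame case. -/
theorem tame_wild [Algebra.IsSeparable K K'] {F F' : Type w} [Field F] [Algebra k F]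
    [Field F'] [Algebra k F'] {P : _root_.FunFld.Place k K} {Q : _root_.FunFld.Place k K'} {e : ℕ}
    (he : FunFld.IsOverWith Q P e) (hK : FunFld.IsFunctionField k K)
    (hsep : ∃ x₀ : K, Hasse.Separable.IsSep k x₀) {φ : K →ₐ[k] LaurentSeries F}
    (hφ : LocRes.IsExpansionAt P.1 φ) {ψ : K' →ₐ[k] LaurentSeries F'}
    (hψ : LocRes.IsExpansionAt Q.1 ψ) {x : K} (hx : LocRes.vDiff φ 1 x ≠ 0) :
    (¬ (ringChar K ∣ e) → LocRes.diffExp φ ψ e x = (e : ℤ) - 1) ∧
      (ringChar K ∣ e → (e : ℤ) ≤ LocRes.diffExp φ ψ e x) := by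
  obtain ⟨t, ht⟩ := Place.exists_val_eq_exp P (-1)
  have hv := diffExp_uniformizer he hK hsep hφ hψ hx ht
  have hψt : Valued.v (ψ (algebraMap K K' t)) = exp (-(e : ℤ)) := by
    rw [hψ.1, he t, ht, ← exp_nsmul]
    simp
  have hiff : ringChar K ∣ e ↔ ((e : ℤ) : F') = 0 := by
    rw [Int.cast_natCast, ← map_natCast (algebraMap k F'), map_eq_zero, ← ringChar.spec,
      ← map_natCast (algebraMap k K), map_eq_zero]
  refine ⟨fun h => ?_, fun h => ?_⟩
  · have := (val_D hψt).1 (fun h0 => h (hiff.mpr h0))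
    rw [hv, exp_inj] at this
    omega
  · have := (val_D hψt).2 (hiff.mp h)
    rw [hv, exp_le_exp] at this
    omega

end Groth.Agent.Lib.FunFld.Different
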