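import Groth.Agent.Lib.FunFld.Different.Basic
import Mathlib.Algebra.Polynomial.Identities

/-! Differentials of the field below, and totally ramified extensions. -/

namespace Groth.Agent.Lib.FunFld.Different

open WithZero
open Groth.Agent.Lib.FunFld

universe u v v' w
variable {k : Type u} [Field k] {T : Type v} [Field T] [Algebra k T] {F : Type w} [Field F]
  [Algebra k F]

/-- Newton's method gives Teichmüller-like lifts of residues. -/
theorem exists_lift [Algebra.IsSeparable k F] {R : _root_.FunFld.Place k T}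
    {χ : T →ₐ[k] LaurentSeries F} {e : ℕ} (he : e ≠ 0) (hχ : ∀ z, Valued.v (χ z) = R.1 z ^ e)
    {z : T} (hz : R.1 z ≤ 1) (n : ℕ) :
    ∃ z', R.1 z' ≤ 1 ∧
      Valued.v (χ z' - HahnSeries.C ((χ z).coeff 0)) ≤ exp (-((n + 1 : ℕ) : ℤ)) := by
  set c := (χ z).coeff 0 with hc
  have hps : ∀ w, R.1 w ≤ 1 → ∃ p : PowerSeries F, (p : LaurentSeries F) = χ w := fun w hw =>
    (LaurentSeries.val_le_one_iff_eq_coe F _).mp (by rw [hχ]; exact pow_le_one₀ zero_le hw)
  set m := minpoly k c
  have hm0 : Polynomial.aeval c m = 0 := minpoly.aeval k c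
  have hm1 : Polynomial.aeval c (Polynomial.derivative m) ≠ 0 :=
    Polynomial.Separable.aeval_derivative_ne_zero (Algebra.IsSeparable.isSeparable k c) hm0
  let j : k →+* PowerSeries F := (PowerSeries.C).comp (algebraMap k F)
  have hev : ∀ (w : T) (p : PowerSeries F) (q : Polynomial k), (p : LaurentSeries F) = χ w →
      χ (Polynomial.aeval w q) = ((Polynomial.eval p (q.map j) : PowerSeries F) : LaurentSeries F) := by
    intro w p q hp
    rw [Polynomial.eval_map, Polynomial.hom_eval₂, hp, ← Polynomial.aeval_algHom_apply,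
      Polynomial.aeval_def]
    congr 1
    exact RingHom.ext fun a => by
      simp only [j, RingHom.comp_apply, HahnSeries.ofPowerSeries_C]
      rw [HahnSeries.algebraMap_apply', PowerSeries.algebraMap_apply, HahnSeries.ofPowerSeries_C]
  induction n with
  | zero =>
    refine ⟨z, hz, ?_⟩
    obtain ⟨p, hp⟩ := hps z hz
    refine (LaurentSeries.valuation_le_iff_coeff_lt_eq_zero F).mpr fun i hi => ?_
    rw [HahnSeries.coeff_sub, sub_eq_zero]
    rcases lt_or_eq_of_le (show i ≤ 0 by push_cast at hi; omega) with hi | rfl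
    · rw [← hp, PowerSeries.coeff_coe, if_pos hi, HahnSeries.C_apply,
        HahnSeries.coeff_single_of_ne hi.ne]
    · simp [hc]
  | succ n ih =>
    obtain ⟨w, hw, hwc⟩ := ih
    obtain ⟨p, hp⟩ := hps w hw
    set f := m.map j with hf
    set δ := p - PowerSeries.C c with hδ
    have hδv : Valued.v (δ : LaurentSeries F) ≤ exp (-((n + 1 : ℕ) : ℤ)) := by
      rwa [hδ, PowerSeries.coe_sub, hp, HahnSeries.ofPowerSeries_C]
    have hfc : ∀ q : Polynomial k,
        Polynomial.eval (PowerSeries.C c) (q.map j) = PowerSeries.C (Polynomial.aeval c q) := by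
      intro q
      rw [Polynomial.eval_map, Polynomial.aeval_def, Polynomial.hom_eval₂]
    obtain ⟨h, hh⟩ := f.binomExpansion (PowerSeries.C c) δ
    obtain ⟨h', hh'⟩ : δ ∣ Polynomial.eval p (Polynomial.derivative f) -
        Polynomial.eval (PowerSeries.C c) (Polynomial.derivative f) := Polynomial.sub_dvd_eval_sub _ _ _
    rw [show PowerSeries.C c + δ = p by rw [hδ]; abel, hf, hfc, hm0, map_zero, zero_add] at hh
    set g := Polynomial.eval p (Polynomial.derivative f) with hg
    have hgw : χ (Polynomial.aeval w (Polynomial.derivative m)) = (g : LaurentSeries F) := by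
      rw [hev w p _ hp, hg, hf, Polynomial.derivative_map]
    have hgv : Valued.v (g : LaurentSeries F) = 1 := by
      refine le_antisymm ((LaurentSeries.val_le_one_iff_eq_coe F _).mpr ⟨g, rfl⟩)
        (le_of_not_gt fun hlt => ?_)
      have h0 : PowerSeries.constantCoeff g = 0 := by
        have h1 : Valued.v (g : LaurentSeries F) ≤ exp (-(1 : ℤ)) := by
          rcases eq_or_ne (Valued.v (g : LaurentSeries F)) 0 with h0 | h0
          · rw [h0]; exact zero_le
          · rw [← exp_log h0, ← exp_zero, exp_lt_exp] at hlt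
            rw [← exp_log h0, exp_le_exp]
            omega
        have := (LaurentSeries.valuation_le_iff_coeff_lt_eq_zero F).mp h1 0 one_pos
        simpa [PowerSeries.coeff_coe] using this
      have hp0 : PowerSeries.constantCoeff δ = 0 := by
        have := (LaurentSeries.valuation_le_iff_coeff_lt_eq_zero F).mp hδv 0 (by omega)
        simpa [PowerSeries.coeff_coe] using this
      have := congrArg PowerSeries.constantCoeff hh'
      rw [map_mul, hp0, zero_mul, map_sub, h0, hf, Polynomial.derivative_map, hfc,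
        PowerSeries.constantCoeff_C, zero_sub, neg_eq_zero] at this
      exact hm1 this
    have hRg : R.1 (Polynomial.aeval w (Polynomial.derivative m)) = 1 := by
      have := hχ (Polynomial.aeval w (Polynomial.derivative m))
      rw [hgw, hgv] at this
      exact (pow_eq_one_iff_left he).mp this.symm
    refine ⟨w - Polynomial.aeval w m / Polynomial.aeval w (Polynomial.derivative m), ?_, ?_⟩
    · refine R.1.map_sub_le hw ?_
      rw [map_div₀, hRg, div_one]
      have hk : ∀ q : Polynomial k, R.1 (Polynomial.aeval w q) ≤ 1 := fun q => by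
        rw [Polynomial.aeval_eq_sum_range]
        refine R.1.map_sum_le fun i _ => ?_
        rw [Algebra.smul_def, map_mul, map_pow]
        exact mul_le_one' (R.2.1 _) (pow_le_one' hw i)
      exact hk m
    · rw [map_sub χ, map_div₀ χ, hgw, hev w p m hp, ← hp, ← HahnSeries.ofPowerSeries_C c]
      have hg0 : (g : LaurentSeries F) ≠ 0 := fun h0 => by rw [h0, map_zero] at hgv; exact zero_ne_one hgv
      have key : δ * g - Polynomial.eval p (m.map j) = δ ^ 2 * (h' - h) := by
        rw [hh]
        linear_combination δ * hh'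
      have e1 : (p : LaurentSeries F) - ((Polynomial.eval p (m.map j) : PowerSeries F) : LaurentSeries F) /
          (g : LaurentSeries F) - (PowerSeries.C c : LaurentSeries F) =
            ((δ ^ 2 * (h' - h) : PowerSeries F) : LaurentSeries F) * (g : LaurentSeries F)⁻¹ := by
        rw [← key, PowerSeries.coe_sub, PowerSeries.coe_mul, hδ, PowerSeries.coe_sub]
        field_simp
        ring
      rw [e1, map_mul, map_inv₀, hgv, inv_one, mul_one, PowerSeries.coe_mul, map_mul,
        PowerSeries.coe_pow, map_pow]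
      refine (mul_le_of_le_one_right' ((LaurentSeries.val_le_one_iff_eq_coe F _).mpr ⟨_, rfl⟩)).trans
        ((pow_le_pow_left' hδv 2).trans ?_)
      rw [← exp_nsmul, exp_le_exp, nsmul_eq_mul]
      push_cast
      omega

/-- `ord dz ≥ ord dt` for an integral `z` and a uniformizer `t` of the field below. -/
theorem val_D_le [Algebra.IsSeparable k F] {R : _root_.FunFld.Place k T}
    {χ : T →ₐ[k] LaurentSeries F} {e : ℕ} (he : e ≠ 0) (hχ : ∀ z, Valued.v (χ z) = R.1 z ^ e)
    {t : T} (ht : R.1 t = exp (-1)) (hDt : LocRes.D F (χ t) ≠ 0) {z : T} (hz : R.1 z ≤ 1) :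
    Valued.v (LocRes.D F (χ z)) ≤ Valued.v (LocRes.D F (χ t)) := by
  have hstep : ∀ (N : ℕ) (z : T), R.1 z ≤ 1 → Valued.v (LocRes.D F (χ z)) ≤
      max (Valued.v (LocRes.D F (χ t))) (exp (-((N : ℤ) - 1))) := by
    intro N
    induction N with
    | zero =>
      intro z hz
      refine le_max_of_le_right (Res.SepRes.D_small ?_)
      rw [hχ, Nat.cast_zero, neg_zero, exp_zero]
      exact pow_le_one₀ zero_le hz
    | succ N ih =>
      intro z hz
      obtain ⟨z', hz', hzc⟩ := exists_lift he hχ hz N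
      set z₁ := (z - z') / t with hz₁
      have ht0 : t ≠ 0 := fun h => exp_ne_zero (by rw [← ht, h, map_zero])
      have hsub : R.1 (z - z') ≤ exp (-1) := by
        have h1 : Valued.v (χ (z - z')) < 1 := by
          have h2 : Valued.v (χ z - HahnSeries.C ((χ z).coeff 0)) ≤ exp (-(1 : ℤ)) := by
            refine (LaurentSeries.valuation_le_iff_coeff_lt_eq_zero F).mpr fun i hi => ?_
            rw [HahnSeries.coeff_sub, sub_eq_zero]
            rcases lt_or_eq_of_le (show i ≤ 0 by omega) with hi | rfl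
            · obtain ⟨p, hp⟩ := (LaurentSeries.val_le_one_iff_eq_coe F _).mp
                (show Valued.v (χ z) ≤ 1 by rw [hχ]; exact pow_le_one₀ zero_le hz)
              rw [← hp, PowerSeries.coeff_coe, if_pos hi, HahnSeries.C_apply,
                HahnSeries.coeff_single_of_ne hi.ne]
            · simp
          have h3 : Valued.v (χ z' - HahnSeries.C ((χ z).coeff 0)) ≤ exp (-(1 : ℤ)) :=
            hzc.trans (exp_le_exp.mpr (by omega))
          have := Valued.v.map_sub_le h2 h3
          rw [sub_sub_sub_cancel_right, ← map_sub] at this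
          exact this.trans_lt (by rw [← exp_zero, exp_lt_exp]; norm_num)
        rw [hχ, pow_lt_one_iff_of_nonneg zero_le he] at h1
        rcases eq_or_ne (R.1 (z - z')) 0 with h0 | h0
        · rw [h0]; exact zero_le
        · have h4 : exp (log (R.1 (z - z'))) < exp (0 : ℤ) := by rw [exp_log h0, exp_zero]; exact h1
          rw [exp_lt_exp] at h4
          rw [← exp_log h0, exp_le_exp]
          omega
      have hz₁v : R.1 z₁ ≤ 1 := by
        rw [hz₁, map_div₀, ht, div_le_one₀ exp_pos]; exact hsub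
      have hzeq : z = z' + t * z₁ := by rw [hz₁, mul_div_cancel₀ _ ht0]; ring
      have hD : LocRes.D F (χ z) = LocRes.D F (χ z' - HahnSeries.C ((χ z).coeff 0)) +
          (χ t * LocRes.D F (χ z₁) + χ z₁ * LocRes.D F (χ t)) := by
        conv_lhs => rw [hzeq, map_add, map_mul, map_add, Derivation.leibniz]
        rw [map_sub, LocRes.D_apply F (HahnSeries.C _), LocRes.derivative_C, sub_zero, smul_eq_mul,
          smul_eq_mul]
      rw [hD]
      refine Valued.v.map_add_le ?_ (Valued.v.map_add_le ?_ ?_)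
      · exact le_max_of_le_right ((Res.SepRes.D_small hzc).trans_eq rfl)
      · rw [map_mul, hχ t, ht, ← exp_nsmul]
        refine (mul_le_mul' le_rfl (ih z₁ hz₁v)).trans ?_
        rw [mul_max]
        refine max_le_max (mul_le_of_le_one_left' ?_) ?_
        · rw [← exp_zero, exp_le_exp, nsmul_eq_mul]; omega
        · rw [← exp_add, exp_le_exp, nsmul_eq_mul]
          push_cast
          omega
      · rw [map_mul, hχ z₁]
        exact le_max_of_le_left (mul_le_of_le_one_left' (pow_le_one₀ zero_le hz₁v))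
  set d := log (Valued.v (LocRes.D F (χ t)))
  refine (hstep (1 - d).toNat z hz).trans (max_le le_rfl ?_)
  refine le_of_le_of_eq (exp_le_exp.mpr ?_) (exp_log ((Valuation.ne_zero_iff _).mpr hDt))
  change _ ≤ d
  omega

variable {K' : Type v'} [Field K'] [Algebra k K'] [Algebra T K'] [IsScalarTower k T K']

/-- Terms of a short combination of powers of a uniformizer do not cancel. -/
theorem val_term_le {R : _root_.FunFld.Place k T} {Q : _root_.FunFld.Place k K'} {e : ℕ}
    (he : FunFld.IsOverWith Q R e) {s : K'} (hs : Q.1 s = exp (-1)) (c : Fin e → T) (i : Fin e) :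
    Q.1 (algebraMap T K' (c i) * s ^ (i : ℕ)) ≤ Q.1 (∑ l, algebraMap T K' (c l) * s ^ (l : ℕ)) := by
  classical
  set w := fun l : Fin e => algebraMap T K' (c l) * s ^ (l : ℕ) with hw
  obtain ⟨m, -, hm⟩ := Finset.exists_max_image Finset.univ (fun l => Q.1 (w l)) ⟨i, Finset.mem_univ _⟩
  rcases eq_or_ne (Q.1 (w m)) 0 with h0 | h0
  · exact ((hm i (Finset.mem_univ _)).trans_eq h0).trans zero_le
  have hval : ∀ l, Q.1 (w l) = R.1 (c l) ^ e * exp (-((l : ℕ) : ℤ)) := fun l => by
    rw [hw, map_mul, he (c l), map_pow, hs, ← exp_nsmul]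
    simp
  have hlt : ∀ l, l ≠ m → Q.1 (w l) < Q.1 (w m) := fun l hl => by
    refine lt_of_le_of_ne (hm l (Finset.mem_univ _)) fun heq => hl (Fin.ext ?_)
    rw [hval, hval] at heq
    have hm0 : R.1 (c m) ≠ 0 := fun h => h0 (by rw [hval, h, zero_pow (by omega), zero_mul])
    have hl0 : R.1 (c l) ≠ 0 := fun h => by
      rw [h, zero_pow (by omega), zero_mul] at heq
      exact mul_ne_zero (pow_ne_zero _ hm0) exp_ne_zero heq.symm
    rw [← exp_log hm0, ← exp_log hl0, ← exp_nsmul, ← exp_nsmul, ← exp_add, ← exp_add, exp_inj,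
      nsmul_eq_mul, nsmul_eq_mul] at heq
    have hl' := l.2
    have hm' := m.2
    have h1 := congrArg (fun a : ℤ => a % (e : ℤ)) heq
    have h2 : ((l : ℕ) : ℤ) % (e : ℤ) = ((m : ℕ) : ℤ) % (e : ℤ) := by
      simp only [Int.mul_add_emod_self_left] at h1
      have := congrArg Neg.neg (Int.ModEq.neg (n := (e : ℤ)) h1)
      simpa [Int.ModEq] using Int.ModEq.neg (n := (e : ℤ)) h1
    rw [Int.emod_eq_of_lt (by omega) (by omega), Int.emod_eq_of_lt (by omega) (by omega)] at h2
    exact_mod_cast h2
  rw [Q.1.map_sum_eq_of_lt (Finset.mem_univ m) fun l hl => hlt l (by simpa using hl)]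
  exact hm i (Finset.mem_univ _)

/-- In a totally ramified extension the different exponent is the order of `f'(s)`. -/
theorem val_derivative_totally_ramified [FiniteDimensional T K'] [Algebra.IsSeparable k F]
    {R : _root_.FunFld.Place k T} {Q : _root_.FunFld.Place k K'} {e : ℕ}
    (he : FunFld.IsOverWith Q R e) (hn : e = Module.finrank T K') {ψ : K' →ₐ[k] LaurentSeries F}
    (hψ : LocRes.IsExpansionAt Q.1 ψ) {s : K'} (hs : Q.1 s = exp (-1)) {t : T}
    (ht : R.1 t = exp (-1)) (hDt : LocRes.D F (ψ (algebraMap T K' t)) ≠ 0) :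
    (minpoly T s).natDegree = e ∧
    Q.1 (Polynomial.aeval s (Polynomial.derivative (minpoly T s))) =
      Valued.v (LocRes.D F (ψ (algebraMap T K' t))) := by
  classical
  have he0 : e ≠ 0 := by rw [hn]; exact Module.finrank_pos.ne'
  set f := minpoly T s
  have hint : IsIntegral T s := Algebra.IsIntegral.isIntegral s
  have hmon : f.Monic := minpoly.monic hint
  have hdeg : f.natDegree = e := by
    refine le_antisymm (hn ▸ minpoly.natDegree_le s) (le_of_not_gt fun hlt => ?_)
    have h := val_term_le he hs (fun l : Fin e => f.coeff l) ⟨f.natDegree, hlt⟩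
    have h0 : ∑ l : Fin e, algebraMap T K' (f.coeff l) * s ^ (l : ℕ) = 0 := by
      rw [Fin.sum_univ_eq_sum_range (fun l => algebraMap T K' (f.coeff l) * s ^ l),
        ← minpoly.aeval T s, Polynomial.aeval_eq_sum_range' hlt]
      exact Finset.sum_congr rfl fun l _ => (Algebra.smul_def _ _).symm
    rw [h0, map_zero] at h
    simp only [hmon.coeff_natDegree, map_one, one_mul, map_pow, hs, ← exp_nsmul] at h
    exact exp_ne_zero (le_antisymm h zero_le)
  refine ⟨hdeg, ?_⟩
  set χ := ψ.comp (IsScalarTower.toAlgHom k T K')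
  have hχ : ∀ z, Valued.v (χ z) = R.1 z ^ e := fun z => (hψ.1 _).trans (he z)
  set a : Fin e → T := fun l => f.coeff l with ha
  have hrel : s ^ e + ∑ l : Fin e, algebraMap T K' (a l) * s ^ (l : ℕ) = 0 := by
    have h0 := minpoly.aeval T s
    rw [Polynomial.aeval_eq_sum_range, hdeg, Finset.sum_range_succ, ← hdeg, hmon.coeff_natDegree,
      one_smul, hdeg, add_comm] at h0
    rw [← h0, Fin.sum_univ_eq_sum_range (fun l => algebraMap T K' (f.coeff l) * s ^ l)]
    exact congrArg _ (Finset.sum_congr rfl fun l _ => (Algebra.smul_def _ _).symm)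
  have hsum : Q.1 (∑ l : Fin e, algebraMap T K' (a l) * s ^ (l : ℕ)) = exp (-(e : ℤ)) := by
    rw [eq_neg_of_add_eq_zero_right hrel, Valuation.map_neg, map_pow, hs, ← exp_nsmul]
    simp
  have hterm : ∀ l : Fin e, R.1 (a l) ^ e * exp (-((l : ℕ) : ℤ)) ≤ exp (-(e : ℤ)) := fun l => by
    have h := (val_term_le he hs a l).trans_eq hsum
    rwa [map_mul, he (a l), map_pow, hs, ← exp_nsmul, smul_neg, nsmul_one] at h
  have hsmall : ∀ l : Fin e, R.1 (a l) ≤ exp (-1) := fun l => by
    rcases eq_or_ne (R.1 (a l)) 0 with h0 | h0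
    · rw [h0]; exact zero_le
    have h := hterm l
    rw [← exp_log h0, ← exp_nsmul, ← exp_add, exp_le_exp, nsmul_eq_mul] at h
    rw [← exp_log h0, exp_le_exp]
    have := l.2
    by_contra hc
    have : (0 : ℤ) ≤ (e : ℤ) * log (R.1 (a l)) := mul_nonneg (by omega) (by omega)
    omega
  have h0e : 0 < e := Nat.pos_of_ne_zero he0
  have ha0 : R.1 (a ⟨0, h0e⟩) = exp (-1) := by
    refine le_antisymm (hsmall _) (le_of_not_gt fun hlt => ?_)
    have hlt' : ∀ l : Fin e, Q.1 (algebraMap T K' (a l) * s ^ (l : ℕ)) < exp (-(e : ℤ)) := fun l => by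
      rw [map_mul, he (a l), map_pow, hs, ← exp_nsmul, smul_neg, nsmul_one]
      rcases eq_or_ne (l : ℕ) 0 with hl | hl
      · obtain rfl : l = ⟨0, h0e⟩ := Fin.ext hl
        simp only [Nat.cast_zero, neg_zero, exp_zero, mul_one]
        refine (pow_lt_pow_left₀ hlt zero_le he0).trans_eq ?_
        rw [← exp_nsmul]; simp
      · refine (mul_le_mul' (pow_le_pow_left' (hsmall l) e) le_rfl).trans_lt ?_
        rw [← exp_nsmul, ← exp_add, exp_lt_exp, smul_neg, nsmul_one]
        omega
    exact absurd hsum (ne_of_lt (Q.1.map_sum_lt exp_ne_zero fun l _ => hlt' l))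
  have hDa0 : Valued.v (LocRes.D F (χ (a ⟨0, h0e⟩))) = Valued.v (LocRes.D F (χ t)) := by
    refine le_antisymm (val_D_le he0 hχ ht hDt (ha0.trans_le (by rw [← exp_zero, exp_le_exp]; norm_num))) ?_
    refine val_D_le he0 hχ ha0 (fun h0 => ?_) (ht.trans_le (by rw [← exp_zero, exp_le_exp]; norm_num))
    -- derivative of a uniformizer below
    set u := a ⟨0, h0e⟩ / t with hu
    have ht0 : t ≠ 0 := fun h => exp_ne_zero (by rw [← ht, h, map_zero])
    have hRu : R.1 u = 1 := by rw [hu, map_div₀, ha0, ht, div_self exp_ne_zero]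
    have hau : a ⟨0, h0e⟩ = t * u := by rw [hu, mul_div_cancel₀ _ ht0]
    rw [hau, map_mul, Derivation.leibniz, smul_eq_mul, smul_eq_mul] at h0
    have h1 := congrArg Valued.v (eq_neg_of_add_eq_zero_right h0)
    rw [Valuation.map_neg, map_mul, map_mul, hχ u, hRu, one_pow, one_mul, hχ t, ht, ← exp_nsmul] at h1
    have h2 := val_D_le he0 hχ ht hDt hRu.le
    have h3 : exp (e • (-1 : ℤ)) * Valued.v (LocRes.D F (χ u)) < Valued.v (LocRes.D F (χ t)) := by
      refine (mul_le_mul' le_rfl h2).trans_lt (mul_lt_of_lt_one_left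
        (zero_lt_iff.mpr ((Valuation.ne_zero_iff _).mpr hDt)) ?_)
      rw [← exp_zero, exp_lt_exp]; simp; omega
    exact h3.ne h1.symm
  have hD : LocRes.D F (ψ (s ^ e + ∑ l : Fin e, algebraMap T K' (a l) * s ^ (l : ℕ))) = 0 := by
    rw [hrel, map_zero, map_zero]
  have hder : ψ (Polynomial.aeval s (Polynomial.derivative f)) * LocRes.D F (ψ s) =
      -∑ l : Fin e, ψ s ^ (l : ℕ) * LocRes.D F (χ (a l)) := by
    rw [eq_neg_iff_add_eq_zero, ← hD]
    have hpow : ∀ n : ℕ, LocRes.D F (ψ s ^ n) = (n : LaurentSeries F) * ψ s ^ (n - 1) * LocRes.D F (ψ s) := by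
      intro n
      rw [Derivation.leibniz_pow, nsmul_eq_mul, smul_eq_mul, mul_assoc]
    have hfe : f = Polynomial.X ^ e + ∑ l : Fin e, Polynomial.C (a l) * Polynomial.X ^ (l : ℕ) := by
      rw [Fin.sum_univ_eq_sum_range (fun l => Polynomial.C (f.coeff l) * Polynomial.X ^ l), ← hdeg]
      exact hmon.as_sum
    have hd : Polynomial.aeval s (Polynomial.derivative f) = (e : K') * s ^ (e - 1) +
        ∑ l : Fin e, algebraMap T K' (a l) * ((l : ℕ) : K') * s ^ ((l : ℕ) - 1) := by
      rw [hfe]
      simp [Polynomial.derivative_sum, map_sum, Polynomial.derivative_pow, mul_assoc]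
    rw [hd]
    simp only [map_add, map_sum, map_mul, map_pow, map_natCast, Derivation.leibniz, smul_eq_mul,
      hpow, add_mul, Finset.sum_mul, Finset.sum_add_distrib, AlgHom.comp_apply,
      IsScalarTower.coe_toAlgHom', χ]
    have e1 : ∑ l : Fin e, ψ (algebraMap T K' (a l)) * ((l : ℕ) : LaurentSeries F) * ψ s ^ ((l : ℕ) - 1) *
        LocRes.D F (ψ s) = ∑ l : Fin e, ψ (algebraMap T K' (a l)) *
          (((l : ℕ) : LaurentSeries F) * ψ s ^ ((l : ℕ) - 1) * LocRes.D F (ψ s)) :=
      Finset.sum_congr rfl fun l _ => by ring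
    rw [e1]
    ring
  have hDs : Valued.v (LocRes.D F (ψ s)) = 1 := val_D_uniformizer (by rw [hψ.1, hs])
  have hpos : 0 < Valued.v (LocRes.D F (χ t)) := zero_lt_iff.mpr ((Valuation.ne_zero_iff _).mpr hDt)
  have hrhs : Valued.v (∑ l : Fin e, ψ s ^ (l : ℕ) * LocRes.D F (χ (a l))) =
      Valued.v (LocRes.D F (χ t)) := by
    rw [Valuation.map_sum_eq_of_lt _ (Finset.mem_univ (⟨0, h0e⟩ : Fin e))]
    · rw [pow_zero, one_mul, hDa0]
    · intro l hl
      have hl0 : (l : ℕ) ≠ 0 := fun h => by simp [Fin.ext_iff, h] at hl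
      rw [pow_zero, one_mul, hDa0, map_mul, map_pow, hψ.1, hs, ← exp_nsmul]
      refine (mul_le_mul' le_rfl (val_D_le he0 hχ ht hDt ((hsmall l).trans
        (by rw [← exp_zero, exp_le_exp]; norm_num)))).trans_lt (mul_lt_of_lt_one_left hpos ?_)
      rw [← exp_zero, exp_lt_exp]; simp; omega
  have := congrArg Valued.v hder
  rw [map_mul, hDs, mul_one, hψ.1, Valuation.map_neg, hrhs] at this
  exact this

end Groth.Agent.Lib.FunFld.Different
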